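import Groth.Prelude.Def_FrobAlg
import Mathlib.FieldTheory.PerfectClosure
import Mathlib.Algebra.Module.Projective
import Mathlib.RingTheory.Flat.Basic
import Mathlib.LinearAlgebra.DirectSum.Finsupp
import Mathlib.RingTheory.Ideal.Maximal

/-! When Frobenius is projective, tensoring with the perfect closure commutes injectively with products. -/

set_option autoImplicit false
set_option linter.style.haveILetI false
universe u w
open scoped TensorProduct
open FrobAlg

namespace Groth.Agent.PerfClPure

variable (p : ℕ) [hp : Fact p.Prime] (R : Type u) [CommRing R] [CharP R p]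

/-- `R` through the `n`-th Frobenius -/
@[nolint unusedArguments]
def Tw (_p : ℕ) (R : Type u) (_n : ℕ) : Type u := R

instance (n : ℕ) : CommRing (Tw p R n) := inferInstanceAs (CommRing R)

/-- the identity -/
def toTw (n : ℕ) : R ≃+* Tw p R n := RingEquiv.refl R

instance (n : ℕ) : Algebra R (Tw p R n) :=
  ((toTw p R n : R →+* Tw p R n).comp (iterateFrobenius R p n)).toAlgebra

theorem smul_toTw (n : ℕ) (c x : R) : c • toTw p R n x = toTw p R n (c ^ p ^ n * x) := rfl

theorem smul_toTwist (c x : R) : c • toTwist p R x = toTwist p R (c ^ p * x) := rfl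

theorem projective_Tw [Module.Projective R (Twist p R)] : ∀ n, Module.Projective R (Tw p R n)
  | 0 => by
    let e : R ≃ₗ[R] Tw p R 0 :=
      { toFun := toTw p R 0
        invFun := (toTw p R 0).symm
        map_add' := fun _ _ => rfl
        map_smul' := fun c x => by
          show toTw p R 0 (c * x) = c • toTw p R 0 x
          rw [smul_toTw, pow_zero, pow_one]
        left_inv := fun _ => rfl
        right_inv := fun _ => rfl }
    exact Module.Projective.of_equiv e
  | n + 1 => by
    classical
    haveI := projective_Tw n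
    obtain ⟨s, hs⟩ := Module.projective_def'.1 this
    let π := Finsupp.linearCombination R (id : Tw p R n → Tw p R n)
    haveI : Module.Projective R (Tw p R n →₀ Twist p R) :=
      Module.Projective.of_equiv (finsuppLEquivDirectSum R (Twist p R) (Tw p R n)).symm
    let e : Twist p R → R := (toTwist p R).symm
    have hsm : ∀ (c : R) (x : Tw p R n), (c ^ p) • x = toTw p R n (c ^ p ^ (n + 1) * (toTw p R n).symm x) := by
      intro c x
      conv_lhs => rw [← (toTw p R n).apply_symm_apply x, smul_toTw, ← pow_mul, ← pow_succ']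
    refine Module.Projective.of_split (P := Tw p R (n + 1)) (M := Tw p R n →₀ Twist p R)
      { toFun := fun x => (s (toTw p R n ((toTw p R (n + 1)).symm x))).mapRange (toTwist p R) (map_zero _)
        map_add' := fun x y => by
          simp only [map_add]
          exact Finsupp.mapRange_add (fun a b => map_add _ a b) _ _
        map_smul' := fun c x => by
          obtain ⟨x, rfl⟩ := (toTw p R (n + 1)).surjective x
          have h : toTw p R n (c ^ p ^ (n + 1) * x) = (c ^ p) • toTw p R n x := by
            rw [hsm, RingEquiv.symm_apply_apply]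
          rw [RingHom.id_apply, smul_toTw, RingEquiv.symm_apply_apply, RingEquiv.symm_apply_apply, h, map_smul]
          ext i
          simp only [Finsupp.mapRange_apply, Finsupp.smul_apply, smul_eq_mul, smul_toTwist] }
      { toFun := fun f => toTw p R (n + 1) ((toTw p R n).symm (π (f.mapRange e (map_zero _))))
        map_add' := fun f g => by
          rw [Finsupp.mapRange_add (fun a b => map_add _ a b), map_add, map_add, map_add]
        map_smul' := fun c f => by
          have h : (c • f).mapRange e (map_zero _) = (c ^ p) • f.mapRange e (map_zero _) := by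
            ext i
            obtain ⟨y, hy⟩ := (toTwist p R).surjective (f i)
            simp only [Finsupp.mapRange_apply, Finsupp.smul_apply, smul_eq_mul, ← hy, e, smul_toTwist,
              RingEquiv.symm_apply_apply]
          rw [RingHom.id_apply, h, map_smul, hsm, RingEquiv.symm_apply_apply, smul_toTw] }
      (LinearMap.ext fun x => ?_)
    obtain ⟨x, rfl⟩ := (toTw p R (n + 1)).surjective x
    show toTw p R (n + 1) ((toTw p R n).symm (π (((s (toTw p R n x)).mapRange (toTwist p R) (map_zero _)).mapRange
      e (map_zero _)))) = toTw p R (n + 1) x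
    have h : ((s (toTw p R n x)).mapRange (toTwist p R) (map_zero _)).mapRange e (map_zero _) = s (toTw p R n x) := by
      ext i; simp [e]
    rw [h, ← LinearMap.comp_apply, hs, LinearMap.id_apply, RingEquiv.symm_apply_apply]

/-- Frobenius splits -/
theorem exists_splitting [Module.Projective R (Twist p R)] : ∃ φ : R →+ R,
    φ 1 = 1 ∧ ∀ c x, φ (c ^ p * x) = c * φ x := by
  classical
  obtain ⟨s, hs⟩ := Module.projective_def'.1 (inferInstance : Module.Projective R (Twist p R))
  let v := s (1 : Twist p R)
  let c : Ideal R := Ideal.span (Set.range v)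
  have hc : c = ⊤ := by
    by_contra hne
    obtain ⟨m, hm, hle⟩ := Ideal.exists_le_maximal c hne
    refine hm.ne_top ((Ideal.eq_top_iff_one m).2 ?_)
    suffices h : ∀ z : Twist p R →₀ R, (∀ i, z i ∈ m) →
        (toTwist p R).symm (Finsupp.linearCombination R (id : Twist p R → Twist p R) z) ∈ m by
      have := h v fun i => hle (Ideal.subset_span ⟨i, rfl⟩)
      rwa [show Finsupp.linearCombination R id v = (1 : Twist p R) from LinearMap.congr_fun hs 1,
        map_one] at this
    intro z hz
    rw [Finsupp.linearCombination_apply, Finsupp.sum, map_sum]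
    refine Ideal.sum_mem _ fun i _ => ?_
    obtain ⟨y, rfl⟩ := (toTwist p R).surjective i
    rw [id_eq, smul_toTwist, RingEquiv.symm_apply_apply]
    exact Ideal.mul_mem_right _ _ (Ideal.pow_mem_of_mem _ (hz _) p hp.out.pos)
  have h1 : (1 : R) ∈ Submodule.span R (Set.range v) := by
    show (1 : R) ∈ c
    rw [hc]; trivial
  obtain ⟨a, ha⟩ := Finsupp.mem_span_range_iff_exists_finsupp.1 h1
  let Φ : Twist p R →ₗ[R] R := (a.sum fun i ai => ai • Finsupp.lapply i) ∘ₗ s
  refine ⟨Φ.toAddMonoidHom.comp (toTwist p R).toRingHom.toAddMonoidHom, ?_, fun c x => ?_⟩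
  · show Φ (toTwist p R 1) = 1
    rw [map_one]
    simpa [Φ, v, Finsupp.sum, LinearMap.sum_apply] using ha
  · show Φ (toTwist p R (c ^ p * x)) = c * Φ (toTwist p R x)
    rw [← smul_toTwist, map_smul, smul_eq_mul]

omit hp [CharP R p] in
theorem iterate_splitting {φ : R →+ R} (h2 : ∀ c x, φ (c ^ p * x) = c * φ x) (k : ℕ) (c x : R) :
    φ^[k] (c ^ p ^ k * x) = c * φ^[k] x := by
  induction k generalizing x with
  | zero => simp
  | succ k ih => rw [Function.iterate_succ_apply, Function.iterate_succ_apply, pow_succ, pow_mul, h2, ih]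

section pc

local instance algPC : Algebra R (PerfectClosure R p) := (PerfectClosure.of R p).toAlgebra

theorem smul_mk (c : R) (x : ℕ × R) :
    c • PerfectClosure.mk R p x = PerfectClosure.mk R p (x.1, c ^ p ^ x.1 * x.2) := by
  rw [Algebra.smul_def]
  show PerfectClosure.of R p c * _ = _
  rw [PerfectClosure.of_apply, PerfectClosure.mk_mul_mk]
  simp [← coe_iterateFrobenius, iterateFrobenius_def]

theorem mk_eq_mk_pow (m k : ℕ) (x : R) :
    PerfectClosure.mk R p (m + k, x ^ p ^ k) = PerfectClosure.mk R p (m, x) := by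
  induction k with
  | zero => simp
  | succ k ih => rw [← add_assoc, pow_succ, pow_mul, PerfectClosure.mk_succ_pow, ih]

/-- the inclusion of a level -/
noncomputable def level (n : ℕ) : Tw p R n →ₗ[R] PerfectClosure R p where
  toFun x := PerfectClosure.mk R p (n, (toTw p R n).symm x)
  map_add' x y := by
    rw [PerfectClosure.mk_add_mk, map_add]
    simp only [← coe_iterateFrobenius, iterateFrobenius_def]
    rw [← map_add, ← iterateFrobenius_def (R := R) (p := p), ← iterateFrobenius_def (R := R) (p := p),
      ← map_add, iterateFrobenius_def]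
    exact (mk_eq_mk_pow p R n n _).symm
  map_smul' c x := by
    obtain ⟨x, rfl⟩ := (toTw p R n).surjective x
    rw [RingHom.id_apply, smul_mk, smul_toTw, RingEquiv.symm_apply_apply, RingEquiv.symm_apply_apply]

theorem exists_retraction [Module.Projective R (Twist p R)] (n : ℕ) :
    ∃ r : PerfectClosure R p →ₗ[R] Tw p R n, r ∘ₗ level p R n = LinearMap.id := by
  obtain ⟨φ, h1, h2⟩ := exists_splitting p R
  let f : ℕ × R → R := fun x => φ^[x.1] (x.2 ^ p ^ n)
  have hf : ∀ x y, PerfectClosure.R R p x y → f x = f y := by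
    rintro _ _ ⟨m, x⟩
    show φ^[m] (x ^ p ^ n) = φ^[m + 1] ((frobenius R p x) ^ p ^ n)
    rw [frobenius_def, Function.iterate_succ_apply, ← pow_mul, mul_comm p, pow_mul]
    conv_rhs => rw [← mul_one ((x ^ p ^ n) ^ p), h2, h1, mul_one]
  let r₀ : PerfectClosure R p → R := fun z => PerfectClosure.liftOn z f hf
  have hr : ∀ x, r₀ (PerfectClosure.mk R p x) = f x := fun x => PerfectClosure.liftOn_mk _ _ _
  have hadd : ∀ m a b, f (m, a + b) = f (m, a) + f (m, b) := fun m a b => by
    show φ^[m] ((a + b) ^ p ^ n) = φ^[m] (a ^ p ^ n) + φ^[m] (b ^ p ^ n)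
    rw [← iterateFrobenius_def, map_add, iterateFrobenius_def, iterateFrobenius_def, iterate_map_add]
  refine ⟨{ toFun := fun z => toTw p R n (r₀ z), map_add' := fun z w => ?_, map_smul' := fun c z => ?_ },
    LinearMap.ext fun x => ?_⟩
  · obtain ⟨⟨m, a⟩, rfl⟩ := PerfectClosure.mk_surjective R p z
    obtain ⟨⟨k, b⟩, rfl⟩ := PerfectClosure.mk_surjective R p w
    rw [← map_add]
    congr 1
    rw [← mk_eq_mk_pow p R m k a, ← mk_eq_mk_pow p R k m b, add_comm k m, PerfectClosure.mk_add_mk]
    simp only [← coe_iterateFrobenius, iterateFrobenius_def]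
    have key : ∀ M N y, f (M + N, y ^ p ^ N) = f (M, y) := fun M N y => by rw [← hr, mk_eq_mk_pow, hr]
    simp only [hr, hadd, key]
  · obtain ⟨⟨m, a⟩, rfl⟩ := PerfectClosure.mk_surjective R p z
    rw [RingHom.id_apply, smul_mk, hr, hr, smul_toTw]
    congr 1
    show φ^[m] ((c ^ p ^ m * a) ^ p ^ n) = c ^ p ^ n * φ^[m] (a ^ p ^ n)
    rw [mul_pow, ← pow_mul, mul_comm (p ^ m), pow_mul, iterate_splitting p R h2]
  · obtain ⟨x, rfl⟩ := (toTw p R n).surjective x
    show toTw p R n (r₀ (PerfectClosure.mk R p (n, (toTw p R n).symm (toTw p R n x)))) = toTw p R n x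
    rw [RingEquiv.symm_apply_apply, hr]
    show toTw p R n (φ^[n] (x ^ p ^ n)) = _
    have h1n : ∀ k, φ^[k] 1 = 1 := fun k => Function.iterate_fixed h1 k
    rw [← mul_one (x ^ p ^ n), iterate_splitting p R h2, h1n, mul_one]

theorem exists_level {L : Type w} [AddCommGroup L] [Module R L] (z : PerfectClosure R p ⊗[R] L) :
    ∃ (n : ℕ) (y : Tw p R n ⊗[R] L), (level p R n).rTensor L y = z := by
  have up : ∀ n k (y : Tw p R n ⊗[R] L), ∃ y' : Tw p R (n + k) ⊗[R] L,
      (level p R (n + k)).rTensor L y' = (level p R n).rTensor L y := by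
    intro n k y
    induction y using TensorProduct.induction_on with
    | zero => exact ⟨0, by simp⟩
    | tmul x l =>
      refine ⟨toTw p R (n + k) (((toTw p R n).symm x) ^ p ^ k) ⊗ₜ l, ?_⟩
      simp only [LinearMap.rTensor_tmul]
      congr 1
      show PerfectClosure.mk R p (n + k, (toTw p R (n + k)).symm _) = PerfectClosure.mk R p (n, _)
      rw [RingEquiv.symm_apply_apply, mk_eq_mk_pow]
    | add a b ha hb =>
      obtain ⟨a', ha'⟩ := ha
      obtain ⟨b', hb'⟩ := hb
      exact ⟨a' + b', by rw [map_add, map_add, ha', hb']⟩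
  induction z using TensorProduct.induction_on with
  | zero => exact ⟨0, 0, by simp⟩
  | tmul x l =>
    obtain ⟨⟨m, a⟩, rfl⟩ := PerfectClosure.mk_surjective R p x
    exact ⟨m, toTw p R m a ⊗ₜ l, by simp [level]⟩
  | add a b ha hb =>
    obtain ⟨n, y, rfl⟩ := ha
    obtain ⟨k, w, rfl⟩ := hb
    obtain ⟨y', hy'⟩ := up n k y
    have h := up k n w
    rw [add_comm k n] at h
    obtain ⟨w', hw'⟩ := h
    exact ⟨n + k, y' + w', by rw [map_add, hy', hw']⟩

theorem pi_injective_of_projective {P : Type u} [AddCommGroup P] [Module R P] [Module.Projective R P]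
    {ι : Type*} {L : Type*} [AddCommGroup L] [Module R L] {M : ι → Type*} [∀ i, AddCommGroup (M i)]
    [∀ i, Module R (M i)] (f : ∀ i, L →ₗ[R] M i) (hf : ∀ l, (∀ i, f i l = 0) → l = 0)
    (z : P ⊗[R] L) (hz : ∀ i, (f i).lTensor P z = 0) : z = 0 := by
  classical
  obtain ⟨s, hs⟩ := Module.projective_def'.1 (inferInstance : Module.Projective R P)
  have h0 : TensorProduct.finsuppScalarLeft R L P (s.rTensor L z) = 0 := by
    ext q
    refine hf _ fun i => ?_
    have hnat : ∀ w : (P →₀ R) ⊗[R] L, f i (TensorProduct.finsuppScalarLeft R L P w q) =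
        TensorProduct.finsuppScalarLeft R (M i) P ((f i).lTensor _ w) q := by
      intro w
      induction w using TensorProduct.induction_on with
      | zero => simp
      | tmul g l => simp [TensorProduct.finsuppScalarLeft_apply_tmul_apply]
      | add a b ha hb => simp only [map_add, Finsupp.add_apply, ha, hb]
    rw [hnat, ← LinearMap.comp_apply ((f i).lTensor (P →₀ R)), LinearMap.lTensor_comp_rTensor,
      ← LinearMap.rTensor_comp_lTensor, LinearMap.comp_apply, hz, map_zero, map_zero, Finsupp.zero_apply]
  have h1 : s.rTensor L z = 0 := (LinearEquiv.map_eq_zero_iff _).1 h0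
  have h2 := congrArg (LinearMap.rTensor L (Finsupp.linearCombination R (id : P → P))) h1
  rwa [← LinearMap.comp_apply, ← LinearMap.rTensor_comp, hs, LinearMap.rTensor_id, LinearMap.id_apply,
    map_zero] at h2

theorem injective_pi [Module.Projective R (Twist p R)] {ι : Type*} {L : Type w} [AddCommGroup L] [Module R L]
    {M : ι → Type*} [∀ i, AddCommGroup (M i)] [∀ i, Module R (M i)] (f : ∀ i, L →ₗ[R] M i)
    (hf : ∀ l, (∀ i, f i l = 0) → l = 0) :
    Function.Injective (LinearMap.pi fun i => (f i).lTensor (PerfectClosure R p)) := by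
  rw [injective_iff_map_eq_zero]
  intro z hz
  obtain ⟨n, y, rfl⟩ := exists_level p R z
  obtain ⟨r, hr⟩ := exists_retraction p R n
  haveI := projective_Tw p R n
  rw [pi_injective_of_projective R f hf y fun i => ?_, map_zero]
  have h := congrArg (r.rTensor (M i)) (congrFun hz i)
  simp only [LinearMap.pi_apply, Pi.zero_apply, map_zero] at h
  rwa [← LinearMap.comp_apply ((f i).lTensor _), LinearMap.lTensor_comp_rTensor, ← LinearMap.rTensor_comp_lTensor,
    LinearMap.comp_apply, ← LinearMap.comp_apply (r.rTensor _), ← LinearMap.rTensor_comp, hr,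
    LinearMap.rTensor_id, LinearMap.id_apply] at h

end pc

end Groth.Agent.PerfClPure
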